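import Cfsg.Agent.Base
import Cfsg.Agent.ClsK.Large2
import Cfsg.Agent.QuadF.Std
import Cfsg.Agent.Orth.Order

/-!
# Coordinates on an extraspecial `2`-subgroup: the quadratic space `Q / ⟨z⟩`
-/

set_option autoImplicit false

namespace CL.XSC

open Subgroup CL.ClsK CL.Orth QuadraticMap Module
open scoped commutatorElement

universe u

variable {G : Type u} [Group G]

theorem z2_cases (a : ZMod 2) : a = 0 ∨ a = 1 := by revert a; decide

theorem z2_ne_zero {a : ZMod 2} : a ≠ 0 ↔ a = 1 := by revert a; decide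

theorem z2_ne_one {a : ZMod 2} : a ≠ 1 ↔ a = 0 := by revert a; decide

theorem v_add_self {V : Type*} [AddCommGroup V] [Module (ZMod 2) V] (v : V) : v + v = 0 := by
  rw [← two_smul (ZMod 2) v, show (2 : ZMod 2) = 0 from rfl, zero_smul]

theorem v_neg {V : Type*} [AddCommGroup V] [Module (ZMod 2) V] (v : V) : -v = v :=
  neg_eq_of_add_eq_zero_left (v_add_self v)

theorem v_sub {V : Type*} [AddCommGroup V] [Module (ZMod 2) V] (v w : V) : v - w = v + w := by
  rw [sub_eq_add_neg, v_neg]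

theorem v_add_eq_zero {V : Type*} [AddCommGroup V] [Module (ZMod 2) V] {v w : V} :
    v + w = 0 ↔ v = w := by rw [← v_sub, sub_eq_zero]

/-- An identification of `Q / ⟨z⟩` with its squaring form with a quadratic space `(V, q)`. -/
structure Coord (Q : Subgroup G) (z : G) {V : Type*} [AddCommGroup V] [Module (ZMod 2) V]
    (q : QuadraticForm (ZMod 2) V) where
  /-- The coordinate map (only its values on `Q` matter). -/
  π : G → V
  map_mul : ∀ a ∈ Q, ∀ b ∈ Q, π (a * b) = π a + π b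
  surj : ∀ v, ∃ a ∈ Q, π a = v
  eq_zero : ∀ a ∈ Q, π a = 0 ↔ a = 1 ∨ a = z
  sq : ∀ a ∈ Q, q (π a) = 0 ↔ a * a = 1

open Classical in
/-- Indicator of non-triviality. -/
noncomputable def chi (x : G) : ZMod 2 := if x = 1 then 0 else 1

theorem chi_eq_zero {x : G} : chi x = 0 ↔ x = 1 := by
  unfold chi; split_ifs with h <;> simp [h]

variable {Q : Subgroup G} {z : G}

theorem chi_mul (h : IsXS Q z) {x y : G} (hx : x = 1 ∨ x = z) (hy : y = 1 ∨ y = z) :
    chi (x * y) = chi x + chi y := by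
  have h1 : chi (1 : G) = 0 := chi_eq_zero.2 rfl
  have h2 : chi z = 1 := z2_ne_zero.1 fun e => h.ne_one (chi_eq_zero.1 e)
  rcases hx with rfl | rfl <;> rcases hy with rfl | rfl
  · simp [h1]
  · simp [h1]
  · simp [h1]
  · rw [h.sq, h1, h2]; rfl

theorem sq_mul (h : IsXS Q z) {a b : G} (ha : a ∈ Q) (hb : b ∈ Q) :
    a * b * (a * b) = a * a * (b * b) * ⁅a, b⁆ := by
  have e : a * b * (a * b) = a * (⁅b, a⁆ * (a * (b * b))) := by
    simp only [commutatorElement_def]; group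
  rw [e, h.comm_symm hb ha,
    ← h.zp_comm (h.comm a ha b hb) (h.central _ (Q.mul_mem ha (Q.mul_mem hb hb)))]
  group

theorem chi_sq_mul (h : IsXS Q z) {a b : G} (ha : a ∈ Q) (hb : b ∈ Q) :
    chi (a * b * (a * b)) = chi (a * a) + chi (b * b) + chi ⁅a, b⁆ := by
  rw [sq_mul h ha hb, chi_mul h (h.zp_mul (h.sq_mem a ha) (h.sq_mem b hb)) (h.comm a ha b hb),
    chi_mul h (h.sq_mem a ha) (h.sq_mem b hb)]

theorem exists_coord_aux (h : IsXS Q z) :
    ∃ (V : Type u) (_ : AddCommGroup V) (_ : Module (ZMod 2) V) (q : QuadraticForm (ZMod 2) V),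
      Nonempty (Coord Q z q) := by
  classical
  let Z : Subgroup Q := (zpowers z).subgroupOf Q
  have hZ : ∀ a : Q, a ∈ Z ↔ (a : G) = 1 ∨ (a : G) = z := fun a => by
    rw [mem_subgroupOf, h.mem_zpowers_iff]
  have : Z.Normal := ⟨fun n hn g => by
    rw [hZ] at hn ⊢
    have := h.zp_comm hn (h.central g g.2)
    show (g : G) * n * (g : G)⁻¹ = 1 ∨ (g : G) * n * (g : G)⁻¹ = z
    rw [this, mul_inv_cancel_right]; exact hn⟩
  letI : CommGroup (Q ⧸ Z) :=
    { QuotientGroup.Quotient.group Z with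
      mul_comm := by
        rintro ⟨a⟩ ⟨b⟩
        show ((a * b : Q) : Q ⧸ Z) = (b * a : Q)
        rw [QuotientGroup.eq, hZ]
        have := h.comm _ (Q.inv_mem b.2) _ (Q.inv_mem a.2)
        simpa [commutatorElement_def, mul_assoc] using this }
  have h2 : ∀ x : Additive (Q ⧸ Z), 2 • x = 0 := by
    intro x
    rw [two_nsmul]
    obtain ⟨a⟩ := x
    show ((a * a : Q) : Q ⧸ Z) = 1
    rw [QuotientGroup.eq_one_iff, hZ]
    exact h.sq_mem a a.2
  letI : Module (ZMod 2) (Additive (Q ⧸ Z)) := AddCommGroup.zmodModule h2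
  let f : Additive (Q ⧸ Z) → ZMod 2 := fun x =>
    Quotient.liftOn' (s₁ := QuotientGroup.leftRel Z) x (fun a : Q => chi ((a : G) * a)) (by
      intro a b hab
      rw [QuotientGroup.leftRel_apply, hZ] at hab
      have e : (b : G) = a * ((a⁻¹ * b : Q) : G) := by simp
      rw [e, chi_sq_mul h a.2 (a⁻¹ * b).2, h.zp_sq hab, h.comm_zp_right hab a.2,
        chi_eq_zero.2 rfl]
      simp)
  have hf : ∀ a : Q, f (Additive.ofMul (a : Q ⧸ Z)) = chi ((a : G) * a) := fun a => rfl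
  have hp : ∀ a b : Q, polar f (Additive.ofMul (a : Q ⧸ Z)) (Additive.ofMul (b : Q ⧸ Z)) =
      chi ⁅(a : G), (b : G)⁆ := fun a b => by
    show f (Additive.ofMul ((a * b : Q) : Q ⧸ Z)) - _ - _ = _
    rw [hf, hf, hf, Subgroup.coe_mul, chi_sq_mul h a.2 b.2]; ring
  have hf0 : f 0 = 0 := by
    show chi (((1 : Q) : G) * (1 : Q)) = 0
    simp [chi_eq_zero]
  let q : QuadraticForm (ZMod 2) (Additive (Q ⧸ Z)) := QuadraticMap.ofPolar f
    (fun a x => by rcases z2_cases a with rfl | rfl <;> simp [hf0])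
    (by
      rintro ⟨a⟩ ⟨b⟩ ⟨c⟩
      show polar f (Additive.ofMul ((a * b : Q) : Q ⧸ Z)) (Additive.ofMul (c : Q ⧸ Z)) =
        polar f (Additive.ofMul (a : Q ⧸ Z)) (Additive.ofMul (c : Q ⧸ Z)) +
        polar f (Additive.ofMul (b : Q ⧸ Z)) (Additive.ofMul (c : Q ⧸ Z))
      rw [hp, hp, hp, Subgroup.coe_mul, h.comm_mul_left a.2 b.2 c.2,
        chi_mul h (h.comm _ a.2 _ c.2) (h.comm _ b.2 _ c.2)])
    (fun a x y => by rcases z2_cases a with rfl | rfl <;> simp [polar, hf0])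
  let π : G → Additive (Q ⧸ Z) := fun g =>
    if hg : g ∈ Q then Additive.ofMul ((⟨g, hg⟩ : Q) : Q ⧸ Z) else 0
  have hπ : ∀ g (hg : g ∈ Q), π g = Additive.ofMul ((⟨g, hg⟩ : Q) : Q ⧸ Z) := fun g hg => dif_pos hg
  refine ⟨Additive (Q ⧸ Z), inferInstance, inferInstance, q, ⟨⟨π, fun a ha b hb => ?_, ?_,
    fun a ha => ?_, fun a ha => ?_⟩⟩⟩
  · rw [hπ _ ha, hπ _ hb, hπ _ (Q.mul_mem ha hb)]; rfl
  · rintro ⟨a⟩
    exact ⟨a, a.2, hπ _ a.2⟩
  · rw [hπ _ ha, ofMul_eq_zero, QuotientGroup.eq_one_iff, hZ]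
  · rw [hπ _ ha]
    have : ⇑q = f := rfl
    rw [this, hf, chi_eq_zero]

namespace Coord

variable {V : Type*} [AddCommGroup V] [Module (ZMod 2) V] {q : QuadraticForm (ZMod 2) V}
  (c : Coord Q z q)

theorem map_one : c.π 1 = 0 := (c.eq_zero 1 Q.one_mem).2 (Or.inl rfl)

theorem map_z (h : IsXS Q z) : c.π z = 0 := (c.eq_zero z h.mem).2 (Or.inr rfl)

theorem map_inv {a : G} (ha : a ∈ Q) : c.π a⁻¹ = c.π a := by
  have := c.map_mul _ (Q.inv_mem ha) _ ha
  rw [inv_mul_cancel, c.map_one] at this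
  exact v_add_eq_zero.1 this.symm

theorem eq_iff {a b : G} (ha : a ∈ Q) (hb : b ∈ Q) : c.π a = c.π b ↔ b = a ∨ b = a * z := by
  rw [← v_add_eq_zero, ← c.map_inv ha, ← c.map_mul _ (Q.inv_mem ha) _ hb,
    c.eq_zero _ (Q.mul_mem (Q.inv_mem ha) hb), inv_mul_eq_iff_eq_mul, inv_mul_eq_iff_eq_mul,
    mul_one]

theorem q_eq (a : G) (ha : a ∈ Q) : q (c.π a) = chi (a * a) := by
  rcases z2_cases (q (c.π a)) with h1 | h1
  · rw [h1, chi_eq_zero.2 ((c.sq a ha).1 h1)]
  · rw [h1]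
    refine (z2_ne_zero.1 fun e => ?_).symm
    rw [(c.sq a ha).2 (chi_eq_zero.1 e)] at h1
    exact zero_ne_one h1

theorem polar_eq (h : IsXS Q z) {a b : G} (ha : a ∈ Q) (hb : b ∈ Q) :
    polar q (c.π a) (c.π b) = chi ⁅a, b⁆ := by
  rw [polar, ← c.map_mul a ha b hb, c.q_eq _ (Q.mul_mem ha hb), c.q_eq a ha, c.q_eq b hb,
    chi_sq_mul h ha hb]
  ring

theorem polar_eq_zero_iff (h : IsXS Q z) {a b : G} (ha : a ∈ Q) (hb : b ∈ Q) :
    polar q (c.π a) (c.π b) = 0 ↔ a * b = b * a := by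
  rw [c.polar_eq h ha hb, chi_eq_zero, commutatorElement_eq_one_iff_mul_comm]

theorem polar_eq_one_iff (h : IsXS Q z) {a b : G} (ha : a ∈ Q) (hb : b ∈ Q) :
    polar q (c.π a) (c.π b) = 1 ↔ ⁅a, b⁆ = z := by
  rw [← z2_ne_zero, Ne, c.polar_eq_zero_iff h ha hb]
  refine ⟨h.comm_eq_z ha hb, fun e e' => h.ne_one ?_⟩
  rw [← e, commutatorElement_eq_one_iff_mul_comm.2 e']

theorem q_eq_one_iff (h : IsXS Q z) {a : G} (ha : a ∈ Q) : q (c.π a) = 1 ↔ a * a = z := by
  rw [← z2_ne_zero, Ne, c.sq a ha]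
  exact ⟨fun e => (h.sq_mem a ha).resolve_left e, fun e e' => h.ne_one (e.symm.trans e')⟩

include c in
theorem nondeg (h : IsXS Q z) (hc : ∀ a ∈ Q, (∀ b ∈ Q, a * b = b * a) → a = 1 ∨ a = z) :
    q.polarBilin.Nondegenerate :=
  nondegenerate_of fun x hx => by
    obtain ⟨a, ha, rfl⟩ := c.surj x
    exact (c.eq_zero a ha).2 (hc a ha fun b hb => (c.polar_eq_zero_iff h ha hb).1 (hx _))

/-- The coordinate map as a homomorphism. -/
def hom : Q →* Multiplicative V where
  toFun a := Multiplicative.ofAdd (c.π a)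
  map_one' := congrArg Multiplicative.ofAdd c.map_one
  map_mul' a b := congrArg Multiplicative.ofAdd (c.map_mul a a.2 b b.2)

include c in
theorem card_eq (h : IsXS Q z) : Nat.card Q = 2 * Nat.card V := by
  have h1 : c.hom.range = ⊤ := MonoidHom.range_eq_top.2 fun v => by
    obtain ⟨a, ha, e⟩ := c.surj v.toAdd
    exact ⟨⟨a, ha⟩, congrArg Multiplicative.ofAdd e⟩
  have h2 : Nat.card c.hom.ker = 2 := by
    rw [Nat.card_eq_two_iff' 1]
    refine ⟨⟨⟨z, h.mem⟩, congrArg Multiplicative.ofAdd (c.map_z h)⟩, fun e => h.ne_one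
      (congrArg (fun x : c.hom.ker => ((x : Q) : G)) e), fun x hx => ?_⟩
    apply Subtype.ext; apply Subtype.ext
    refine ((c.eq_zero _ x.1.2).1 (congrArg Multiplicative.toAdd x.2)).resolve_left fun e => hx ?_
    exact Subtype.ext (Subtype.ext e)
  rw [← c.hom.ker.card_mul_index, h2, index_ker, h1, card_top]
  rfl

/-- Change of coordinates. -/
def comp {V' : Type*} [AddCommGroup V'] [Module (ZMod 2) V'] {q' : QuadraticForm (ZMod 2) V'}
    (e : V ≃ₗ[ZMod 2] V') (he : ∀ v, q' (e v) = q v) : Coord Q z q' where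
  π g := e (c.π g)
  map_mul a ha b hb := by rw [c.map_mul a ha b hb, _root_.map_add]
  surj v := by
    obtain ⟨a, ha, h⟩ := c.surj (e.symm v)
    exact ⟨a, ha, by rw [h, e.apply_symm_apply]⟩
  eq_zero a ha := by rw [e.map_eq_zero_iff, c.eq_zero a ha]
  sq a ha := by rw [he, c.sq a ha]

/-- A section of the coordinate map. -/
noncomputable def sec (v : V) : G := (c.surj v).choose

theorem sec_mem (v : V) : c.sec v ∈ Q := (c.surj v).choose_spec.1

theorem map_sec (v : V) : c.π (c.sec v) = v := (c.surj v).choose_spec.2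

theorem conj_mem {t a : G} (ht : t ∈ normalizer (Q : Set G)) (ha : a ∈ Q) : t * a * t⁻¹ ∈ Q :=
  (mem_normalizer_iff.1 ht a).1 ha

theorem map_conj_congr (h : IsXS Q z) {t a b : G} (ht : t ∈ normalizer (Q : Set G)) (ha : a ∈ Q)
    (hb : b ∈ Q) (e : c.π a = c.π b) : c.π (t * a * t⁻¹) = c.π (t * b * t⁻¹) := by
  rw [c.eq_iff (conj_mem ht ha) (conj_mem ht hb)]
  rcases (c.eq_iff ha hb).1 e with rfl | rfl
  · exact Or.inl rfl
  · right
    calc t * (a * z) * t⁻¹ = t * a * t⁻¹ * (t * z) * t⁻¹ := by group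
      _ = _ := by rw [h.conj_z ht]; group

/-- The linear map induced by an element normalising `Q`. -/
noncomputable def actLin (h : IsXS Q z) (t : normalizer (Q : Set G)) : V →ₗ[ZMod 2] V :=
  (AddMonoidHom.mk' (fun v => c.π (t * c.sec v * (t : G)⁻¹)) fun v w => by
    rw [← c.map_mul _ (conj_mem t.2 (c.sec_mem v)) _ (conj_mem t.2 (c.sec_mem w)), conj_mul]
    refine c.map_conj_congr h t.2 (c.sec_mem _) (Q.mul_mem (c.sec_mem v) (c.sec_mem w)) ?_
    rw [c.map_mul _ (c.sec_mem v) _ (c.sec_mem w), c.map_sec, c.map_sec, c.map_sec]).toZModLinearMap 2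

theorem actLin_map (h : IsXS Q z) (t : normalizer (Q : Set G)) {a : G} (ha : a ∈ Q) :
    c.actLin h t (c.π a) = c.π (t * a * (t : G)⁻¹) :=
  c.map_conj_congr h t.2 (c.sec_mem _) ha (c.map_sec _)

theorem actLin_mul (h : IsXS Q z) (t s : normalizer (Q : Set G)) (v : V) :
    c.actLin h (t * s) v = c.actLin h t (c.actLin h s v) := by
  obtain ⟨a, ha, rfl⟩ := c.surj v
  rw [c.actLin_map h _ ha, c.actLin_map h _ ha, c.actLin_map h _ (conj_mem s.2 ha)]
  congr 1
  simp [mul_assoc]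

theorem actLin_one (h : IsXS Q z) (v : V) : c.actLin h 1 v = v := by
  obtain ⟨a, ha, rfl⟩ := c.surj v
  rw [c.actLin_map h _ ha]; simp

/-- The action of the normaliser of `Q` on the quadratic space. -/
noncomputable def act (h : IsXS Q z) : normalizer (Q : Set G) →* O q where
  toFun t := mkO (c.actLin h t) (c.actLin h t⁻¹)
    (fun x => by rw [← actLin_mul, mul_inv_cancel, actLin_one])
    (fun x => by rw [← actLin_mul, inv_mul_cancel, actLin_one])
    (fun x => by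
      obtain ⟨a, ha, rfl⟩ := c.surj x
      rw [c.actLin_map h _ ha, c.q_eq _ (conj_mem t.2 ha), c.q_eq _ ha, conj_mul]
      rcases h.sq_mem a ha with e | e <;> rw [e]
      · simp
      · rw [h.conj_z t.2, mul_inv_cancel_right])
  map_one' := O_ext fun x => c.actLin_one h x
  map_mul' t s := O_ext fun x => c.actLin_mul h t s x

theorem act_map (h : IsXS Q z) (t : normalizer (Q : Set G)) {a : G} (ha : a ∈ Q) :
    (c.act h t).1 (c.π a) = c.π (t * a * (t : G)⁻¹) := c.actLin_map h t ha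

theorem act_eq_iff (h : IsXS Q z) (t : normalizer (Q : Set G)) (g : O q) :
    c.act h t = g ↔ ∀ a ∈ Q, c.π (t * a * (t : G)⁻¹) = g.1 (c.π a) := by
  refine ⟨fun e a ha => by rw [← e, c.act_map h t ha], fun H => O_ext fun x => ?_⟩
  obtain ⟨a, ha, rfl⟩ := c.surj x
  rw [c.act_map h t ha, H a ha]

theorem act_eq_one_iff (h : IsXS Q z) (t : normalizer (Q : Set G)) :
    c.act h t = 1 ↔ ∀ a ∈ Q, ⁅(t : G), a⁆ = 1 ∨ ⁅(t : G), a⁆ = z := by
  rw [c.act_eq_iff h]
  refine forall₂_congr fun a ha => ?_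
  rw [O_one_apply, ← v_add_eq_zero, ← c.map_inv ha,
    ← c.map_mul _ (conj_mem t.2 ha) _ (Q.inv_mem ha),
    c.eq_zero _ (Q.mul_mem (conj_mem t.2 ha) (Q.inv_mem ha)), commutatorElement_def]

theorem act_of_mem (h : IsXS Q z) {t : G} (ht : t ∈ Q) : c.act h ⟨t, le_normalizer ht⟩ = 1 :=
  (c.act_eq_one_iff h _).2 fun a ha => h.comm t ht a ha

include c in
/-- Every homomorphism `Q → ⟨z⟩` killing `z` is `a ↦ ⁅r, a⁆` for some `r ∈ Q`. -/
theorem exists_comm_eq [Finite V] (h : IsXS Q z) (hq : q.polarBilin.Nondegenerate) (f : G → ZMod 2)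
    (hf : ∀ a ∈ Q, ∀ b ∈ Q, f (a * b) = f a + f b) (hz : f z = 0) :
    ∃ r ∈ Q, ∀ a ∈ Q, chi ⁅r, a⁆ = f a := by
  have hcong : ∀ a ∈ Q, ∀ b ∈ Q, c.π a = c.π b → f a = f b := fun a ha b hb e => by
    rcases (c.eq_iff ha hb).1 e with rfl | rfl
    · rfl
    · rw [hf _ ha _ h.mem, hz, add_zero]
  let l : V →ₗ[ZMod 2] ZMod 2 := (AddMonoidHom.mk' (fun v => f (c.sec v)) fun v w => by
    rw [← hf _ (c.sec_mem v) _ (c.sec_mem w)]
    refine hcong _ (c.sec_mem _) _ (Q.mul_mem (c.sec_mem v) (c.sec_mem w)) ?_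
    rw [c.map_mul _ (c.sec_mem v) _ (c.sec_mem w), c.map_sec, c.map_sec, c.map_sec]).toZModLinearMap 2
  obtain ⟨r, hr, e⟩ := c.surj ((LinearMap.BilinForm.toDual q.polarBilin hq).symm l)
  refine ⟨r, hr, fun a ha => ?_⟩
  rw [← c.polar_eq h hr ha, e, ← polarBilin_apply_apply,
    LinearMap.BilinForm.apply_toDual_symm_apply]
  exact hcong _ (c.sec_mem _) _ ha (c.map_sec _)

theorem _root_.CL.ClsK.IsLarge.centralizer_le (hL : IsLarge Q z) :
    centralizer ({z} : Set G) ≤ normalizer (Q : Set G) :=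
  fun t ht => hL.norm t (mem_centralizer_singleton_iff.1 ht)

theorem _root_.CL.ClsK.IsXS.le_centralizer_z (h : IsXS Q z) : Q ≤ centralizer ({z} : Set G) :=
  fun t ht => mem_centralizer_singleton_iff.2 (h.central t ht)

/-- The action of `C(z)` on the quadratic space of a large subgroup. -/
noncomputable def actC (hL : IsLarge Q z) : centralizer ({z} : Set G) →* O q :=
  (c.act hL.xs).comp (inclusion hL.centralizer_le)

theorem actC_map (hL : IsLarge Q z) (t : centralizer ({z} : Set G)) {a : G} (ha : a ∈ Q) :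
    (c.actC hL t).1 (c.π a) = c.π (t * a * (t : G)⁻¹) := c.act_map hL.xs _ ha

theorem actC_eq_iff (hL : IsLarge Q z) (t : centralizer ({z} : Set G)) (g : O q) :
    c.actC hL t = g ↔ ∀ a ∈ Q, c.π (t * a * (t : G)⁻¹) = g.1 (c.π a) := c.act_eq_iff hL.xs _ g

theorem actC_eq_one_iff (hL : IsLarge Q z) (t : centralizer ({z} : Set G)) :
    c.actC hL t = 1 ↔ (t : G) ∈ Q := by
  refine (c.act_eq_one_iff hL.xs _).trans ⟨fun H => ?_, fun ht a ha => hL.xs.comm _ ht a ha⟩
  exact hL.mem t (mem_centralizer_singleton_iff.1 t.2) H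

theorem card_centralizer (hL : IsLarge Q z) :
    Nat.card (centralizer ({z} : Set G)) = Nat.card Q * Nat.card (c.actC hL).range := by
  have h1 : (c.actC hL).ker = Q.subgroupOf _ := by
    ext t; rw [MonoidHom.mem_ker, c.actC_eq_one_iff, mem_subgroupOf]
  rw [← (c.actC hL).ker.card_mul_index, index_ker, h1,
    Nat.card_congr (subgroupOfEquivOfLe hL.xs.le_centralizer_z).toEquiv]

end Coord

/-- Over `𝔽₂` the commutator subgroup is the only subgroup of index two of `O(q)`. -/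
theorem eq_commutator_of_index_two {V : Type*} [AddCommGroup V] [Module (ZMod 2) V] [Finite V]
    {q : QuadraticForm (ZMod 2) V} (hq : q.polarBilin.Nondegenerate)
    (h4 : finrank (ZMod 2) V ≠ 4) (h1 : 1 ≤ finrank (ZMod 2) V) {K : Subgroup (O q)}
    (hK : K.index = 2) : K = commutator (O q) := by
  have h2 := index_commutator_of_sq (fun a : ZMod 2 => by revert a; decide) hq
    (tame_of_finrank_ne_four hq h4) h1
  have := finite_O q
  have hn : K.Normal := normal_of_index_eq_two hK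
  have hle : commutator (O q) ≤ K := by
    rw [commutator_def, commutator_le]
    intro a _ b _
    rw [commutatorElement_def, mul_mem_iff_of_index_two hK, mul_mem_iff_of_index_two hK,
      mul_mem_iff_of_index_two hK, inv_mem_iff, inv_mem_iff]
    tauto
  refine (eq_of_le_of_card_ge hle ?_).symm
  have e1 := K.card_mul_index
  have e2 := (commutator (O q)).card_mul_index
  rw [hK] at e1
  rw [h2] at e2
  omega

theorem aniso_one_one : ∀ z₁ z₂ : ZMod 2, z₁ ^ 2 + 1 * z₁ * z₂ + 1 * z₂ ^ 2 = 0 → z₁ = 0 ∧ z₂ = 0 := by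
  decide

/-- An extraspecial group of order `2^(2m+3)` has coordinates of plus or of minus type. -/
theorem exists_coord [Finite G] (h : IsXS Q z)
    (hc : ∀ a ∈ Q, (∀ b ∈ Q, a * b = b * a) → a = 1 ∨ a = z) {m : ℕ}
    (hcard : Nat.card Q = 2 ^ (2 * m + 3)) :
    Nonempty (Coord Q z (qPlus (m + 1) (ZMod 2))) ∨ Nonempty (Coord Q z (qMinus m (ZMod 2) 1 1)) := by
  obtain ⟨V, _, _, q, ⟨c⟩⟩ := exists_coord_aux h
  have h1 := c.card_eq h
  have h2 : Nat.card V = 2 ^ (2 * m + 2) := by rw [hcard, pow_succ] at h1; omega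
  have : Finite V := Nat.finite_of_card_ne_zero (by rw [h2]; positivity)
  have h3 : finrank (ZMod 2) V = 2 * m + 2 := by
    have := Module.natCard_eq_pow_finrank (K := ZMod 2) (V := V)
    rw [h2, Nat.card_zmod] at this
    exact (Nat.pow_right_injective le_rfl this).symm
  have hq := c.nondeg h hc
  by_cases hW : ∃ W : Submodule (ZMod 2) V, finrank (ZMod 2) W = m + 1 ∧ ∀ w ∈ W, q w = 0
  · obtain ⟨W, hW1, hW2⟩ := hW
    obtain ⟨e, he⟩ := QuadF.exists_equiv_plus hq (m := m + 1) (by omega) hW2 hW1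
    exact Or.inl ⟨c.comp e.symm fun v => by
      rw [← e.apply_symm_apply v, he, e.symm_apply_apply]
      exact congrFun ((coe_qPlus _).trans (QuadF.coe_qPlus _ _).symm) _⟩
  · obtain ⟨e, he⟩ := QuadF.exists_equiv_minus hq h3 hW aniso_one_one
    exact Or.inr ⟨c.comp e.symm fun v => by
      rw [← e.apply_symm_apply v, he, e.symm_apply_apply]
      exact congrFun ((coe_qMinus _ _ _).trans (QuadF.coe_qMinus _ _ _ _).symm) _⟩

end CL.XSC
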